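import Cfsg.Agent.Lib.ToddCox.Glue
set_option autoImplicit false
set_option maxRecDepth 100000
namespace Cfsg.Agent.Lib.ToddCox.O73C4
def E_0 : ℕ := 0x40c00001000001030000040000040400001000001010000040000040000001000001000000040000030c00000c00000c30000030000030000000c00000c00000030000020c00000800000830000020000020800000800000820000020000010800000400000420000010000010400000400000410000010000000800000000000020000000000000400000000000010000000000000000000000000000000000000030800001000001020000030000020400000c00000c10000020000010000000800000800000010000000c0000040000043000000
end Cfsg.Agent.Lib.ToddCox.O73C4
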